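import Groth.Agent.WDivX.PicHom
import Groth.Agent.H23.TrivBasic

/-!
# Extending a frame over the preimage of an open of the base

An invertible module on a normal scheme fibred over a normal base with integral fibres, free over
the preimage of a nonempty open of the base and trivial along a section, is trivial.
-/

universe u

open AlgebraicGeometry CategoryTheory TopologicalSpace

set_option backward.isDefEq.respectTransparency false

namespace Groth.Agent.PicProd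

open Groth.Agent.InvX Groth.Agent.AModX Groth.Agent.WDivX Groth.Agent.H23.TrivBasic

section Ord

variable {P : Scheme.{u}} [IsIntegral P] [IsLocallyNoetherian P] {L : P.Modules} {U₀ : P.Opens}
  {e₀ : Γ(L, U₀)}

theorem hasCoord_self (he₀ : IsFrame e₀) : HasCoord e₀ e₀ 1 := fun W hW hV h₀ r hr => by
  have : r = 1 := he₀.coord_unique h₀ (by rw [one_smul]; exact hr.symm)
  rw [this, map_one]

/-- Two frames have coordinates of the same order at every point where both are defined. -/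
theorem ord_coord_eq (he₀ : IsFrame e₀) (h₀ : genericPoint P ∈ U₀) {A B : P.Opens} {a : Γ(L, A)}
    {b : Γ(L, B)} (ha : IsFrame a) (hb : IsFrame b) {φ ψ : P.functionField} (hφ : HasCoord e₀ a φ)
    (hψ : HasCoord e₀ b ψ) {z : P} (hzA : z ∈ A) (hzB : z ∈ B) :
    Scheme.ord φ z = Scheme.ord ψ z := by
  have hW : genericPoint P ∈ A ⊓ B := genericPoint_mem (show z ∈ A ⊓ B from ⟨hzA, hzB⟩)
  obtain ⟨r, hr⟩ := ha.exists_coord inf_le_left (res L (inf_le_right : A ⊓ B ≤ B) b)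
  obtain ⟨r', hr'⟩ := hb.exists_coord inf_le_right (res L (inf_le_left : A ⊓ B ≤ A) a)
  have hrr : r * r' = 1 := hb.coord_unique inf_le_right (by rw [one_smul, mul_smul, ← hr', ← hr])
  have c1 := (hφ.res (inf_le_left : A ⊓ B ≤ A)).smul he₀ hW r
  rw [← hr] at c1
  rw [(hψ.res inf_le_right).unique he₀ h₀ hW c1]
  haveI : Nonempty (A ⊓ B : P.Opens) := ⟨⟨_, hW⟩⟩
  have hru : IsUnit r := IsUnit.of_mul_eq_one r' hrr
  rw [Scheme.ord_mul (hru.map _).ne_zero (hφ.ne_zero he₀ h₀ hW.1 ha)]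
  have : Scheme.ord (P.presheaf.germ (A ⊓ B) (genericPoint P) hW r) z = 0 :=
    Scheme.ord_of_isUnit (U := A ⊓ B) hru ⟨hzA, hzB⟩
  rw [this, zero_add]

end Ord

variable {P X : Scheme.{u}} [IsIntegral P] [IsIntegral X] [IsLocallyNoetherian P] [IsLocallyNoetherian X]
  {f : P ⟶ X} {σ : X ⟶ P}

theorem triv_of_frame_preimage (hs : σ ≫ f = 𝟙 X) (hP : Pi1.IsNormalScheme P) (hX : Pi1.IsNormalScheme X)
    (hvert : ∀ z : P, Order.coheight z = 1 → f z ≠ genericPoint X →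
      Order.coheight (f z) = 1 ∧ (∀ w, f w = f z → z ⤳ w) ∧
        (IsLocalRing.maximalIdeal (X.presheaf.stalk (f z))).map (f.stalkMap z).hom =
          IsLocalRing.maximalIdeal (P.presheaf.stalk z))
    {L : P.Modules} (hL : PicF.IsInvertible L) {U : X.Opens} (hU : genericPoint X ∈ U)
    {e₀ : Γ(L, f ⁻¹ᵁ U)} (he₀ : IsFrame e₀) (hσ : Triv ((Scheme.Modules.pullback σ).obj L)) :
    Triv L := by
  classical
  have h₀ : genericPoint P ∈ f ⁻¹ᵁ U :=
    show f (genericPoint P) ∈ U from (generic_eq hs).symm ▸ hU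
  have hσU : ∀ x : X, x ∈ U → σ x ∈ f ⁻¹ᵁ U := fun x hx => show f (σ x) ∈ U by rwa [apply_section hs]
  -- restriction of the frame to the section
  let ε₀ : Γ((Scheme.Modules.pullback σ).obj L, σ ⁻¹ᵁ (f ⁻¹ᵁ U)) := pullElt σ e₀
  have hε₀ : IsFrame ε₀ := isFrame_pullElt σ he₀
  have hε₀η : genericPoint X ∈ σ ⁻¹ᵁ (f ⁻¹ᵁ U) := hσU _ hU
  obtain ⟨E, hE⟩ := hσ.exists_frame
  obtain ⟨γ₀, hγ₀⟩ := exists_hasCoord hε₀ hε₀η (V := (⊤ : X.Opens)) trivial E
  have hγ₀0 : γ₀ ≠ 0 := hγ₀.ne_zero hε₀ hε₀η (U := (⊤ : X.Opens)) trivial hE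
  set γ := pullFF f (generic_eq hs) γ₀ with hγdef
  have hγ0 : γ ≠ 0 := (map_ne_zero _).mpr hγ₀0
  -- local frames
  choose A hxA a ha using exists_frame hL
  have hηA : ∀ x, genericPoint P ∈ A x := fun x => genericPoint_mem (hxA x)
  choose φ hφ using fun x => exists_hasCoord he₀ h₀ (hηA x) (a x)
  have hφ0 : ∀ x, φ x ≠ 0 := fun x => (hφ x).ne_zero he₀ h₀ (hηA x) (ha x)
  have hin : ∀ x z, z ∈ A x → z ∈ f ⁻¹ᵁ U → Scheme.ord (φ x) z = 0 := fun x z hz hz' => by
    rw [ord_coord_eq he₀ h₀ (ha x) he₀ (hφ x) (hasCoord_self he₀) hz hz']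
    exact WDivX.ord_one z
  have hkey : ∀ x z : P, z ⤳ x → Order.coheight z = 1 → Scheme.ord (γ / φ x) z = 0 := by
    intro x z hzx hz1
    have hzA : z ∈ A x := hzx.mem_open (A x).isOpen (hxA x)
    rw [ord_div hγ0 (hφ0 x), sub_eq_zero]
    by_cases hzη : f z = genericPoint X
    · rw [hγdef, ord_pullFF_eq_zero f _ hzη hγ₀0, hin x z hzA (show f z ∈ U from hzη ▸ hU)]
    rw [hγdef, ord_pullFF_vertical hs hX hvert hz1 hzη hγ₀0]
    by_cases hzU : z ∈ f ⁻¹ᵁ U
    · rw [hin x z hzA hzU]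
      rw [ord_coord_eq hε₀ hε₀η hE hε₀ hγ₀ (hasCoord_self hε₀) trivial (hσU _ hzU)]
      exact WDivX.ord_one _
    · have hzs : z ⤳ σ (f z) := (hvert z hz1 hzη).2.1 _ (apply_section hs _)
      set b := σ (f z) with hb
      have hzb : z ∈ A b := hzs.mem_open (A b).isOpen (hxA b)
      rw [ord_coord_eq he₀ h₀ (ha x) (ha b) (hφ x) (hφ b) hzA hzb]
      -- the coordinate of the frame near the section
      let W : P.Opens := A b ⊓ f ⁻¹ᵁ U
      have hσb : genericPoint X ∈ σ ⁻¹ᵁ A b :=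
        genericPoint_mem (show f z ∈ σ ⁻¹ᵁ A b from hxA b)
      have hWη : genericPoint X ∈ σ ⁻¹ᵁ W := ⟨hσb, hε₀η⟩
      obtain ⟨r, hr⟩ := he₀.exists_coord (inf_le_right : W ≤ f ⁻¹ᵁ U) (res L (inf_le_left : W ≤ A b) (a b))
      have hr1 := congrArg (pullElt σ) hr
      rw [pullElt_smul, ← res_pullElt, ← res_pullElt] at hr1
      have hWηP : genericPoint P ∈ W := ⟨hηA b, h₀⟩
      have hφr : P.presheaf.germ W (genericPoint P) hWηP r = φ b := hφ b W hWηP _ _ r hr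
      set c := X.presheaf.germ (σ ⁻¹ᵁ W) (genericPoint X) hWη (σ.app W r) with hc
      have hev : IsEv σ (φ b) c := by
        have := isEv_section (s := σ) hWη r
        rw [hφr] at this
        exact this
      obtain ⟨hc0, hord⟩ := ord_ev_eq hs hP hX hvert (hφ0 b) hev hz1 hzη
        fun w hw _ hwη => hin b w (hw.mem_open (A b).isOpen (hxA b)) (show f w ∈ U from hwη ▸ hU)
      have hfr : IsFrame (pullElt σ (a b)) := isFrame_pullElt σ (ha b)
      obtain ⟨ψ, hψ⟩ := exists_hasCoord hε₀ hε₀η hσb (pullElt σ (a b))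
      have hψc : c = ψ := hψ (σ ⁻¹ᵁ W) hWη _ _ _ hr1
      rw [← hord, hψc]
      exact ord_coord_eq hε₀ hε₀η hE hfr hγ₀ hψ trivial (hxA b)
  -- gluing
  have hloc : ∀ x : P, ∃ (W : P.Opens) (_ : x ∈ W) (m : Γ(L, W)), IsFrame m ∧ HasCoord e₀ m γ := by
    intro x
    obtain ⟨v, hv, hvγ⟩ := exists_unit_of_ord hP x (div_ne_zero hγ0 (hφ0 x)) (hkey x)
    obtain ⟨W, hWV, hxW, t, ht, htγ⟩ := exists_section_of_unit hv (hxA x)
    rw [hvγ] at htγ
    refine ⟨W, hxW, t • res L hWV (a x), ((ha x).res _).isUnit_smul ht, ?_⟩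
    have := ((hφ x).res hWV).smul he₀ (genericPoint_mem hxW) t
    rwa [htγ, div_mul_cancel₀ _ (hφ0 x)] at this
  choose W hxW m hm hmγ using hloc
  obtain ⟨G, hG, -⟩ := existsUnique_glue (M := L) (V := ⊤) W (fun _ => le_top) (fun p _ => ⟨p, hxW p⟩) m
    fun p q => eq_of_hasCoord hL he₀ h₀ (V := W p ⊓ W q) ⟨genericPoint_mem (hxW p), genericPoint_mem (hxW q)⟩
      ((hmγ p).res inf_le_left) ((hmγ q).res inf_le_right)
  exact triv_of_frame (isFrame_of_locally fun x _ => ⟨W x, le_top, hxW x, hG x ▸ hm x⟩)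

end Groth.Agent.PicProd
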