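import Groth.Agent.S7601
import Groth.Agent.S1668
import Groth.Agent.S1582

/-! # Products of normal varieties over an algebraically closed field -/

universe u

open CategoryTheory CategoryTheory.Limits AlgebraicGeometry

set_option backward.isDefEq.respectTransparency false

namespace Groth.Agent.PicProd

theorem isNormalScheme_of_isIso {X Y : Scheme.{u}} (f : X ⟶ Y) [IsIso f] (h : Pi1.IsNormalScheme Y) :
    Pi1.IsNormalScheme X := fun x => by
  let e := (asIso (f.stalkMap x)).commRingCatIsoToRingEquiv
  obtain ⟨hd, hn⟩ := h (f x)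
  haveI := hd
  haveI := hn
  exact ⟨e.symm.toMulEquiv.isDomain _, IsIntegrallyClosed.of_equiv e⟩

theorem isNormalScheme_bc_of_isAlgClosed (k : Type u) [Field k] [IsAlgClosed k] (X : Scheme.{u})
    [X.Over (Spec (CommRingCat.of k))] (hX : Pi1.IsNormalScheme X) (K : Type u) [Field K] [Algebra k K] :
    Pi1.IsNormalScheme (Curv2.bc k X K) := by
  refine Groth.Agent.S1668.result k X (fun k' _ _ _ _ => ?_) K
  have hb : Function.Bijective (algebraMap k k') :=
    IsAlgClosed.algebraMap_bijective_of_isIntegral
  haveI : IsIso (Spec.map (CommRingCat.ofHom (algebraMap k k'))) := by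
    haveI : IsIso (CommRingCat.ofHom (algebraMap k k')) :=
      (RingEquiv.ofBijective _ hb).toCommRingCatIso.isIso_hom
    infer_instance
  exact isNormalScheme_of_isIso (Curv2.bcFst k X k') hX

theorem isNormalScheme_pullback {k : Type u} [Field k] [IsAlgClosed k] {X Y : Scheme.{u}}
    (f : X ⟶ Spec (CommRingCat.of k)) (g : Y ⟶ Spec (CommRingCat.of k))
    (hX : Pi1.IsNormalScheme X) (hY : Pi1.IsNormalScheme Y) :
    Pi1.IsNormalScheme (pullback f g) := by
  letI : X.Over (Spec (CommRingCat.of k)) := ⟨f⟩
  letI : Y.Over (Spec (CommRingCat.of k)) := ⟨g⟩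
  exact Groth.Agent.S7601.result k X Y (fun K _ _ => isNormalScheme_bc_of_isAlgClosed k X hX K) hY

end Groth.Agent.PicProd
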