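import Groth.Agent.S1582
import Groth.Agent.FlatDvr.FibreStalk
import Groth.Agent.WDivX.PicHom
import Mathlib.AlgebraicGeometry.Geometrically.Integral

/-! # Vertical prime divisors of a flat morphism with integral fibres -/

universe u

open CategoryTheory CategoryTheory.Limits AlgebraicGeometry IsLocalRing TopologicalSpace

set_option backward.isDefEq.respectTransparency false

namespace Groth.Agent.PicProd

theorem geometricallyIntegral_of_isAlgClosed {k : Type u} [Field k] [IsAlgClosed k] {Y : Scheme.{u}}
    (g : Y ⟶ Spec (CommRingCat.of k)) [IsIntegral Y] [IsSeparated g] [LocallyOfFiniteType g] [QuasiCompact g] :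
    GeometricallyIntegral g := by
  haveI := GrpSchLib.geometricallyIrreducible_of_isAlgClosed g
  haveI : GeometricallyReduced g := by
    letI : Y.Over (Spec (CommRingCat.of k)) := ⟨g⟩
    exact (GeomField.geometricallyReduced_iff (k := k) (X := Y)).2 fun x => GeomField.isGeomReducedAt_of_perfect x
  exact GeometricallyIntegral.of_geometricallyReduced_of_geometricallyIrreducible g

/-- For a flat morphism with integral fibres a prime divisor not dominating the base is the whole preimage of a
prime divisor, with multiplicity one. -/
theorem vertical_of_integral_fibres {P X : Scheme.{u}} [IsIntegral P] [IsIntegral X] (f : P ⟶ X) [Flat f]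
    [∀ e : X, IsIntegral (f.fiber e)] (z : P) (hz : Order.coheight z = 1)
    (hz' : f z ≠ genericPoint X) :
    Order.coheight (f z) = 1 ∧ (∀ w, f w = f z → z ⤳ w) ∧
      (maximalIdeal (X.presheaf.stalk (f z))).map (f.stalkMap z).hom = maximalIdeal (P.presheaf.stalk z) := by
  have hη : genericPoint X ⤳ f z := (genericPoint_spec X).specializes trivial
  have hgen : f (genericPoint P) = genericPoint X := by
    obtain ⟨a, ha, hfa⟩ := Flat.generalizingMap f (a := genericPoint P)
      (show genericPoint X ⤳ f (genericPoint P) from (genericPoint_spec X).specializes trivial)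
    rw [← hfa]
    exact congrArg f (((genericPoint_spec P).specializes trivial).antisymm ha).eq
  have hmaxη : ∀ b : P, Order.coheight b = 0 → b = genericPoint P := fun b hb => by
    have hg : genericPoint P ⤳ b := (genericPoint_spec P).specializes trivial
    have h' : b ≤ genericPoint P := hg
    exact (Specializes.antisymm (Scheme.le_iff_specializes.1 (Order.coheight_eq_zero.1 hb h')) hg).eq
  -- the generic point of the fibre
  let w := genericPoint (f.fiber (f z))
  let ζ := f.fiberι (f z) w
  have hζ : f ζ = f z := FlatDvr.fiberι_apply_eq f w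
  have hall : ∀ v, f v = f z → ζ ⤳ v := fun v hv => by
    obtain ⟨w', rfl⟩ : v ∈ Set.range (f.fiberι (f z)) := by rw [Scheme.Hom.range_fiberι]; exact hv
    exact ((genericPoint_spec _).specializes trivial).map (f.fiberι (f z)).continuous
  have hζz : ζ = z := by
    refine WDivX.eq_of_specializes_of_coheight (hall z rfl) ?_ hz
    refine le_antisymm ?_ ?_
    · exact (Order.coheight_anti (show z ≤ ζ from hall z rfl)).trans hz.le
    · refine Order.one_le_iff_pos.2 (pos_iff_ne_zero.2 fun h0 => hz' ?_)
      rw [← hζ, hmaxη ζ h0, hgen]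
  refine ⟨?_, fun v hv => hζz ▸ hall v hv, ?_⟩
  · refine le_antisymm (not_lt.1 fun h => ?_) ?_
    · obtain ⟨a, ha, hca⟩ : ∃ a : X, f z < a ∧ 1 ≤ Order.coheight a := by
        have h2 : ((2 : ℕ) : ℕ∞) ≤ Order.coheight (f z) := Order.add_one_le_of_lt h
        obtain ⟨p, hp0, hlen⟩ := Order.exists_series_of_le_coheight (f z) h2
        let i₁ : Fin (p.length + 1) := ⟨1, by rw [hlen]; decide⟩
        let i₂ : Fin (p.length + 1) := ⟨2, by rw [hlen]; decide⟩
        refine ⟨p i₁, hp0 ▸ p.strictMono (show (0 : Fin (p.length + 1)) < i₁ from Nat.one_pos), ?_⟩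
        exact le_trans le_add_self (Order.coheight_add_one_le (p.strictMono (show i₁ < i₂ from Nat.lt_succ_self 1)))
      obtain ⟨b, hb, rfl⟩ := Flat.generalizingMap f (a := z) (show a ⤳ f z from Scheme.le_iff_specializes.1 ha.le)
      have hlt : z < b := lt_iff_le_not_ge.mpr ⟨Scheme.le_iff_specializes.2 hb, fun h' => ha.ne
        (congrArg f ((Scheme.le_iff_specializes.1 h').antisymm hb).eq)⟩
      have h1 := Order.coheight_add_one_le hlt
      rw [hz] at h1
      have hb0 : Order.coheight b = 0 :=
        nonpos_iff_eq_zero.1 ((ENat.add_le_add_iff_right ENat.one_ne_top).1 (h1.trans (zero_add _).ge))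
      rw [hmaxη b hb0, hgen, Order.coheight_eq_zero.2 (fun a' _ => Scheme.le_iff_specializes.2
        ((genericPoint_spec X).specializes trivial))] at hca
      exact absurd hca (by simp)
    · refine Order.one_le_iff_pos.2 (pos_iff_ne_zero.2 fun h0 => hz' ?_)
      exact (Specializes.antisymm (Scheme.le_iff_specializes.1 (Order.coheight_eq_zero.1 h0 (Scheme.le_iff_specializes.2 hη))) hη).eq
  · have hk := FlatDvr.ker_stalkMap_fiberι f w
    have hmax : (RingHom.ker ((f.fiberι (f z)).stalkMap w).hom).IsMaximal := by
      letI : Field ((f.fiber (f z)).presheaf.stalk w) := inferInstanceAs (Field (f.fiber (f z)).functionField)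
      exact RingHom.ker_isMaximal_of_surjective _ ((f.fiberι (f z)).stalkMap_surjective w)
    rw [hk] at hmax
    have := IsLocalRing.eq_maximalIdeal hmax
    rw [← hζz]
    exact this

end Groth.Agent.PicProd
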