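import Groth.Agent.PicProd.Rational
import Groth.Agent.PicProd.Normal
import Groth.Agent.PicProd.Vert
import Groth.Agent.H23.PicMul
import Groth.Prelude.Def_PicGrp
import Mathlib.AlgebraicGeometry.AlgClosed.Basic

/-!
# The Picard group of a product with a rational normal variety
-/

universe u

open CategoryTheory CategoryTheory.Limits AlgebraicGeometry TopologicalSpace

set_option backward.isDefEq.respectTransparency false

namespace Groth.Agent.PicProd

open Groth.Agent.InvX Groth.Agent.H23.TrivBasic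

variable {k : Type u} [Field k]

theorem triv_spec_field {M : (Spec (CommRingCat.of k)).Modules} (hM : PicF.IsInvertible M) : Triv M := by
  let p : Spec (CommRingCat.of k) := IsLocalRing.closedPoint k
  obtain ⟨U, hpU, e, he⟩ := exists_frame hM p
  have hU : U = ⊤ := by
    refine eq_top_iff.2 fun q _ => ?_
    have : q = p := Subsingleton.elim (α := PrimeSpectrum k) _ _
    rwa [this]
  subst hU
  exact triv_of_frame he

/-- Inverse images along a morphism through a point are trivial. -/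
theorem triv_of_point {X Y : Scheme.{u}} {a : X ⟶ Spec (CommRingCat.of k)} {y : Spec (CommRingCat.of k) ⟶ Y}
    {h : X ⟶ Y} (e : h = a ≫ y) {M : Y.Modules} (hM : PicF.IsInvertible M) :
    Triv ((Scheme.Modules.pullback h).obj M) := by
  subst e
  exact (triv_comp_iff a y).1 ((triv_spec_field (PicLoc.isInvertible_pullback y hM)).pullback a)

theorem exists_point_mem [IsAlgClosed k] {X : Scheme.{u}} (a : X ⟶ Spec (CommRingCat.of k)) [LocallyOfFiniteType a]
    (U : X.Opens) (hU : (U : Set X).Nonempty) :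
    ∃ x : Spec (CommRingCat.of k) ⟶ X, x ≫ a = 𝟙 _ ∧ x (IsLocalRing.closedPoint k) ∈ U := by
  have : JacobsonSpace X := LocallyOfFiniteType.jacobsonSpace a
  obtain ⟨c, hc1, hc⟩ := nonempty_inter_closedPoints (Z := (U : Set X)) hU U.isOpen.isLocallyClosed
  let s := (pointEquivClosedPoint a).symm ⟨c, hc⟩
  have hsc : s.1 (IsLocalRing.closedPoint k) = c :=
    congrArg Subtype.val ((pointEquivClosedPoint a).apply_symm_apply ⟨c, hc⟩)
  exact ⟨s.1, s.2, hsc ▸ hc1⟩

variable [IsAlgClosed k] {X Y : Scheme.{u}} (a : X ⟶ Spec (CommRingCat.of k)) (b : Y ⟶ Spec (CommRingCat.of k))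
  [IsIntegral X] [IsSeparated a] [LocallyOfFiniteType a] [QuasiCompact a]
  [IsIntegral Y] [IsSeparated b] [LocallyOfFiniteType b] [QuasiCompact b]

/-- An invertible module on the product of normal varieties, one rational, trivial on both axes, is trivial. -/
theorem triv_of_axes (hX : Pi1.IsNormalScheme X) (hY : Pi1.IsNormalScheme Y)
    {σ : Type u} [Finite σ] (U : X.Opens) (j : (U : Scheme.{u}) ⟶ 𝔸(σ; Spec (CommRingCat.of k))) [IsOpenImmersion j]
    (hj : j ≫ (𝔸(σ; Spec (CommRingCat.of k)) ↘ Spec (CommRingCat.of k)) = U.ι ≫ a)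
    (x₀ : Spec (CommRingCat.of k) ⟶ X) (hx₀ : x₀ ≫ a = 𝟙 _) (hxU : x₀ (IsLocalRing.closedPoint k) ∈ U)
    (y₀ : Spec (CommRingCat.of k) ⟶ Y) (hy₀ : y₀ ≫ b = 𝟙 _)
    {L : (pullback a b).Modules} (hL : PicF.IsInvertible L)
    (h₁ : Triv ((Scheme.Modules.pullback
      (pullback.lift (f := a) (g := b) (𝟙 X) (a ≫ y₀) (by simp [hy₀]))).obj L))
    (h₂ : Triv ((Scheme.Modules.pullback
      (pullback.lift (f := a) (g := b) (b ≫ x₀) (𝟙 Y) (by simp [hx₀]))).obj L)) :
    Triv L := by
  haveI : IsIntegral (pullback a b) := Groth.Agent.S1582.result k X Y a b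
  haveI : IsLocallyNoetherian X := LocallyOfFiniteType.isLocallyNoetherian a
  haveI : IsLocallyNoetherian Y := LocallyOfFiniteType.isLocallyNoetherian b
  haveI : IsLocallyNoetherian (pullback a b) :=
    LocallyOfFiniteType.isLocallyNoetherian (pullback.fst a b ≫ a)
  haveI : CompactSpace Y := QuasiCompact.compactSpace_of_compactSpace b
  haveI : AlgebraicGeometry.IsNoetherian Y := {}
  haveI : GeometricallyIntegral b := geometricallyIntegral_of_isAlgClosed b
  haveI : GeometricallyIntegral (pullback.fst a b) := inferInstance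
  haveI : Flat b := inferInstance
  haveI : Flat (pullback.fst a b) := inferInstance
  have hP := isNormalScheme_pullback a b hX hY
  have hUη : genericPoint X ∈ U := ((genericPoint_spec X).specializes trivial).mem_open U.isOpen hxU
  obtain ⟨e₀, he₀⟩ := exists_frame_over a b hY U j hj
    (pullback.lift (f := a) (g := b) (b ≫ x₀) (𝟙 Y) (by simp [hx₀])) (pullback.lift_snd _ _ _)
    (fun y => by
      rw [← Scheme.Hom.comp_apply, pullback.lift_fst, Scheme.Hom.comp_apply]
      have : b y = IsLocalRing.closedPoint k := Subsingleton.elim (α := PrimeSpectrum k) _ _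
      rwa [this]) hL h₂
  exact triv_of_frame_preimage (pullback.lift_fst _ _ _) hP hX
    (fun z hz hz' => vertical_of_integral_fibres (pullback.fst a b) z hz hz') hL hUη he₀ h₁

/-- Classes on the product are products of classes from the factors, uniquely. -/
theorem bijective_mul [PicGrp.Law X] [PicGrp.Law Y] [PicGrp.Law (pullback a b)]
    (hX : Pi1.IsNormalScheme X) (hY : Pi1.IsNormalScheme Y)
    {σ : Type u} [Finite σ] (U : X.Opens) (hU : (U : Set X).Nonempty)
    (j : (U : Scheme.{u}) ⟶ 𝔸(σ; Spec (CommRingCat.of k))) [IsOpenImmersion j]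
    (hj : j ≫ (𝔸(σ; Spec (CommRingCat.of k)) ↘ Spec (CommRingCat.of k)) = U.ι ≫ a)
    (h₁ : PicGrp.PullMul (pullback.fst a b)) (h₂ : PicGrp.PullMul (pullback.snd a b)) :
    Function.Bijective (fun cd : PicLoc.PicSet X × PicLoc.PicSet Y =>
      PicGrp.pullHom (pullback.fst a b) h₁ cd.1 * PicGrp.pullHom (pullback.snd a b) h₂ cd.2) := by
  obtain ⟨x₀, hx₀, hxU⟩ := exists_point_mem a U hU
  obtain ⟨y₀, hy₀, -⟩ := exists_point_mem b ⊤ ⟨genericPoint Y, trivial⟩
  set s := pullback.lift (f := a) (g := b) (𝟙 X) (a ≫ y₀) (by simp [hy₀]) with hs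
  set t := pullback.lift (f := a) (g := b) (b ≫ x₀) (𝟙 Y) (by simp [hx₀]) with ht
  let S := PicGrp.pullHom s (H23.PicMul.pullMul s)
  let T := PicGrp.pullHom t (H23.PicMul.pullMul t)
  let F := PicGrp.pullHom (pullback.fst a b) h₁
  let G := PicGrp.pullHom (pullback.snd a b) h₂
  have hval : ∀ {P Q R : Scheme.{u}} [PicGrp.Law P] [PicGrp.Law Q] [PicGrp.Law R] (u : P ⟶ Q) (v : Q ⟶ R)
      (hu : PicGrp.PullMul u) (hv : PicGrp.PullMul v) (c : PicLoc.PicSet R),
      (PicGrp.pullHom u hu (PicGrp.pullHom v hv c)).1 = PicF.pullCl (u ≫ v) c.1 :=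
    fun u v _ _ c => (PicLoc.pullCl_comp u v c.1).symm
  have hSF : ∀ c, S (F c) = c := fun c => Subtype.ext (by
    rw [hval, hs, pullback.lift_fst, PicLoc.pullCl_id])
  have hTG : ∀ c, T (G c) = c := fun c => Subtype.ext (by
    rw [hval, ht, pullback.lift_snd, PicLoc.pullCl_id])
  have hSG : ∀ c, S (G c) = 1 := fun c => Subtype.ext (by
    obtain ⟨M, hM, rfl⟩ := PicGrp.exists_eq_cls c
    rw [hval, hs, pullback.lift_snd, PicGrp.one_val]
    exact (PicGrp.cl_eq_cl_iff _ _).2 (triv_of_point rfl hM))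
  have hTF : ∀ c, T (F c) = 1 := fun c => Subtype.ext (by
    obtain ⟨M, hM, rfl⟩ := PicGrp.exists_eq_cls c
    rw [hval, ht, pullback.lift_fst, PicGrp.one_val]
    exact (PicGrp.cl_eq_cl_iff _ _).2 (triv_of_point rfl hM))
  have key : ∀ c, S c = 1 → T c = 1 → c = 1 := by
    intro c hS hT
    obtain ⟨M, hM, rfl⟩ := PicGrp.exists_eq_cls c
    rw [PicGrp.cls_eq_one_iff]
    simp only [S, T, PicGrp.pullHom_cls, PicGrp.cls_eq_one_iff] at hS hT
    exact triv_of_axes a b hX hY U j hj x₀ hx₀ hxU y₀ hy₀ hM hS hT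
  refine ⟨?_, fun c => ⟨(S c, T c), ?_⟩⟩
  · rintro ⟨c, d⟩ ⟨c', d'⟩ h
    have e₁ := congrArg S h
    have e₂ := congrArg T h
    change S (F c * G d) = S (F c' * G d') at e₁
    change T (F c * G d) = T (F c' * G d') at e₂
    rw [map_mul, map_mul, hSF, hSF, hSG, hSG, mul_one, mul_one] at e₁
    rw [map_mul, map_mul, hTF, hTF, hTG, hTG, one_mul, one_mul] at e₂
    rw [e₁, e₂]
  · change F (S c) * G (T c) = c
    refine (div_eq_one.1 (key (c / (F (S c) * G (T c))) ?_ ?_)).symm
    · rw [map_div, map_mul, hSF, hSG, mul_one, div_self']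
    · rw [map_div, map_mul, hTF, hTG, one_mul, div_self']

end Groth.Agent.PicProd
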