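import Groth.Agent.PicProd.Extend
import Groth.Agent.WDivX.PicAffine

/-!
# Modules over the preimage of an open of affine space
-/

universe u

open CategoryTheory CategoryTheory.Limits AlgebraicGeometry TopologicalSpace

set_option backward.isDefEq.respectTransparency false

namespace Groth.Agent.PicProd

open Groth.Agent.InvX Groth.Agent.AModX Groth.Agent.H23.TrivBasic

theorem exists_frame_of_triv_ι {X : Scheme.{u}} {L : X.Modules} (U : X.Opens)
    (h : Triv ((Scheme.Modules.pullback U.ι).obj L)) : ∃ e : Γ(L, U), IsFrame e := by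
  obtain ⟨φ₀⟩ := h
  let φ : L.restrict U.ι ≅ Coh.structureModule U.toScheme :=
    (Scheme.Modules.restrictFunctorIsoPullback U.ι).app L ≪≫ φ₀
  let e' : Γ(L.restrict U.ι, ⊤) := φ.inv.app ⊤ (1 : Γ(U.toScheme, ⊤))
  refine ⟨res L (le_of_eq U.ι_image_top.symm) (show Γ(L, U.ι ''ᵁ ⊤) from e'), fun V hV => ?_⟩
  obtain ⟨V', rfl⟩ : ∃ V', U.ι ''ᵁ V' = V := ⟨U.ι ⁻¹ᵁ V, by
    rw [Scheme.Hom.image_preimage_eq_opensRange_inf, Scheme.Opens.opensRange_ι]
    exact inf_eq_right.mpr hV⟩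
  have hb : Function.Bijective (φ.inv.app V') :=
    (ConcreteCategory.isIso_iff_bijective _).1 (Scheme.Modules.Hom.isIso_iff_isIso_app.1 inferInstance V')
  have key : ∀ r : Γ(X, U.ι ''ᵁ V'), (show Γ(L.restrict U.ι, V') from
      r • res L (hV : U.ι ''ᵁ V' ≤ U) (res L (le_of_eq U.ι_image_top.symm)
        (show Γ(L, U.ι ''ᵁ ⊤) from e'))) = φ.inv.app V' ((U.ι.appIso V').hom r) := by
    intro r
    have h1 : φ.inv.app V' (1 : Γ(U.toScheme, V')) = res (L.restrict U.ι) le_top e' := by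
      rw [← app_res]
      exact congrArg (φ.inv.app V') (map_one (resR (le_top : V' ≤ ⊤))).symm
    conv_rhs => rw [show (U.ι.appIso V').hom r = (U.ι.appIso V').hom r • (1 : Γ(U.toScheme, V')) from
      (mul_one _).symm]
    erw [Scheme.Modules.Hom.app_smul, h1]
    rw [res_res]
    show r • res L (U.ι.image_mono (le_top : V' ≤ ⊤)) (show Γ(L, U.ι ''ᵁ ⊤) from e') =
      (U.ι.appIso V').inv.hom ((U.ι.appIso V').hom r) •
      res L (U.ι.image_mono (le_top : V' ≤ ⊤)) (show Γ(L, U.ι ''ᵁ ⊤) from e')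
    rw [Iso.hom_inv_id_apply]
  have he2 : (fun r : Γ(X, U.ι ''ᵁ V') => (show Γ(L.restrict U.ι, V') from
      r • res L (hV : U.ι ''ᵁ V' ≤ U) (res L (le_of_eq U.ι_image_top.symm)
        (show Γ(L, U.ι ''ᵁ ⊤) from e')))) = (φ.inv.app V') ∘ (U.ι.appIso V').hom := funext key
  have hiso : Function.Bijective (U.ι.appIso V').hom :=
    (ConcreteCategory.isIso_iff_bijective _).1 inferInstance
  exact (congrArg Function.Bijective he2).mpr (hb.comp hiso)

variable {k : Type u} [Field k] {σ : Type u} {X Y : Scheme.{u}}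
  (a : X ⟶ Spec (CommRingCat.of k)) (b : Y ⟶ Spec (CommRingCat.of k))

/-- The part of the product over an open of affine space is an open of affine space over the second factor. -/
theorem exists_immersion (U : X.Opens) (j : (U : Scheme.{u}) ⟶ 𝔸(σ; Spec (CommRingCat.of k))) [IsOpenImmersion j]
    (hj : j ≫ (𝔸(σ; Spec (CommRingCat.of k)) ↘ Spec (CommRingCat.of k)) = U.ι ≫ a) :
    ∃ i : (pullback.fst a b ⁻¹ᵁ U : Scheme.{u}) ⟶ 𝔸(σ; Y), IsOpenImmersion i ∧
      i ≫ (𝔸(σ; Y) ↘ Y) = (pullback.fst a b ⁻¹ᵁ U).ι ≫ pullback.snd a b := by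
  let q : pullback (U.ι ≫ a) b ⟶ pullback a b :=
    pullback.map (U.ι ≫ a) b a b U.ι (𝟙 _) (𝟙 _) (by simp) (by simp)
  haveI : IsOpenImmersion q := inferInstance
  have hq : Set.range q = Set.range (pullback.fst a b ⁻¹ᵁ U).ι := by
    rw [Scheme.Pullback.range_map, Scheme.Opens.range_ι, Scheme.Opens.range_ι]
    ext p
    simp [Scheme.Hom.coe_preimage]
  let w : pullback (U.ι ≫ a) b ⟶
      pullback (𝔸(σ; Spec (CommRingCat.of k)) ↘ Spec (CommRingCat.of k)) b :=
    pullback.map (U.ι ≫ a) b _ b j (𝟙 _) (𝟙 _) (by rw [hj]; simp) (by simp)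
  haveI : IsOpenImmersion w := inferInstance
  let I := (AffineSpace.isPullback_map (n := σ) b).isoPullback
  refine ⟨(IsOpenImmersion.isoOfRangeEq (pullback.fst a b ⁻¹ᵁ U).ι q hq.symm).hom ≫ w ≫ I.inv,
    inferInstance, ?_⟩
  rw [Category.assoc, Category.assoc, IsPullback.isoPullback_inv_snd, pullback.lift_snd, Category.comp_id]
  have h : q ≫ pullback.snd a b = pullback.snd (U.ι ≫ a) b := by simp [q]
  rw [← h, IsOpenImmersion.isoOfRangeEq_hom_fac_assoc]

/-- An invertible module trivial along a section of the second projection is free over an open of affine space. -/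
theorem exists_frame_over [Finite σ] [IsIntegral Y] [IsNoetherian Y] (hY : Pi1.IsNormalScheme Y)
    (U : X.Opens) (j : (U : Scheme.{u}) ⟶ 𝔸(σ; Spec (CommRingCat.of k))) [IsOpenImmersion j]
    (hj : j ≫ (𝔸(σ; Spec (CommRingCat.of k)) ↘ Spec (CommRingCat.of k)) = U.ι ≫ a)
    (τ : Y ⟶ pullback a b) (hτ : τ ≫ pullback.snd a b = 𝟙 Y) (hτU : ∀ y, pullback.fst a b (τ y) ∈ U)
    {L : (pullback a b).Modules} (hL : PicF.IsInvertible L)
    (htriv : Triv ((Scheme.Modules.pullback τ).obj L)) :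
    ∃ e : Γ(L, pullback.fst a b ⁻¹ᵁ U), IsFrame e := by
  obtain ⟨i, hi, hisnd⟩ := exists_immersion a b U j hj
  haveI := hi
  let W := pullback.fst a b ⁻¹ᵁ U
  have hrange : Set.range τ ⊆ Set.range W.ι := by
    rw [Scheme.Opens.range_ι]
    rintro _ ⟨y, rfl⟩
    exact hτU y
  let t : Y ⟶ W := IsOpenImmersion.lift W.ι τ hrange
  have ht : t ≫ W.ι = τ := IsOpenImmersion.lift_fac _ _ _
  obtain ⟨φ⟩ := WDivX.nonempty_iso_pullback_affineSpace hY i t
    (by rw [hisnd, ← Category.assoc, ht, hτ]) ((Scheme.Modules.pullback W.ι).obj L)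
    (PicLoc.isInvertible_pullback W.ι hL)
  refine exists_frame_of_triv_ι W (Triv.of_iso φ.symm ?_)
  refine Triv.pullback _ ?_
  exact (triv_comp_iff t W.ι).2 ((triv_congr ht).2 htriv)

end Groth.Agent.PicProd
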